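import Groth.Agent.Lib.UHTower.Basic
import Mathlib.RingTheory.Spectrum.Prime.Topology

/-!
# The relative weak normalization and seminormalization as a largest subalgebra
-/

set_option autoImplicit false

universe u

open CategoryTheory AlgebraicGeometry
open GrothLib.UHTower

namespace GrothLib.WeakNorm9

variable {A B : Type u} [CommRing A] [CommRing B] [Algebra A B]

theorem isIntegral_sSup (𝒯 : Set (Subalgebra A B)) (h : ∀ T ∈ 𝒯, (algebraMap A T).IsIntegral) :
    sSup 𝒯 ≤ integralClosure A B :=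
  sSup_le fun T hT x hx => IsIntegral.map T.val (show IsIntegral A (⟨x, hx⟩ : T) from h T hT ⟨x, hx⟩)

theorem isIntegral_of_le {T : Subalgebra A B} (h : T ≤ integralClosure A B) : (algebraMap A T).IsIntegral :=
  fun x => (isIntegral_algHom_iff T.val Subtype.val_injective).1 (h x.2)

theorem surjective_comap (hker : RingHom.ker (algebraMap A B) ≤ nilradical A) {T : Subalgebra A B}
    (h : (algebraMap A T).IsIntegral) : Function.Surjective (PrimeSpectrum.comap (algebraMap A T)) := by
  have hT : RingHom.ker (algebraMap A T) ≤ nilradical A := fun a ha =>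
    hker ((RingHom.mem_ker).2 (congrArg Subtype.val (RingHom.mem_ker.1 ha)))
  have hi : (algebraMap A T).kerLift.IsIntegral := RingHom.IsIntegral.tower_top (Ideal.Quotient.mk (RingHom.ker (algebraMap A T))) _
    (show ((algebraMap A T).kerLift.comp (Ideal.Quotient.mk _)).IsIntegral from h)
  have := (PrimeSpectrum.comap_quotientMk_bijective_of_le_nilradical hT).2.comp
    (hi.comap_surjective (algebraMap A T).kerLift_injective)
  exact this

theorem radic_sSup (𝒯 : Set (Subalgebra A B)) (h : ∀ T ∈ 𝒯, Radic (algebraMap A T)) :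
    Radic (algebraMap A (sSup 𝒯 : Subalgebra A B)) := by
  intro K _ f g hfg
  letI : Algebra A K := (f.comp (algebraMap A _)).toAlgebra
  let f' : (sSup 𝒯 : Subalgebra A B) →ₐ[A] K := { f with commutes' := fun _ => rfl }
  let g' : (sSup 𝒯 : Subalgebra A B) →ₐ[A] K := { g with commutes' := fun a => (RingHom.congr_fun hfg a).symm }
  have key : ∀ x (hx : x ∈ sSup 𝒯), f ⟨x, hx⟩ = g ⟨x, hx⟩ := by
    have hle : sSup 𝒯 ≤ (AlgHom.equalizer f' g').map (sSup 𝒯 : Subalgebra A B).val := sSup_le fun T hT x hx => by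
      have hT' : T ≤ sSup 𝒯 := le_sSup hT
      refine ⟨⟨x, hT' hx⟩, ?_, rfl⟩
      have e := h T hT K (f.comp (Subalgebra.inclusion hT').toRingHom) (g.comp (Subalgebra.inclusion hT').toRingHom)
        (RingHom.ext fun a => RingHom.congr_fun hfg a)
      exact RingHom.congr_fun e ⟨x, hx⟩
    intro x hx
    obtain ⟨⟨y, hy⟩, he, rfl⟩ := hle hx
    exact he
  exact RingHom.ext fun x => key x.1 x.2

theorem trivRes_sSup (𝒯 : Set (Subalgebra A B)) (h : ∀ T ∈ 𝒯, TrivRes (algebraMap A T)) :
    TrivRes (algebraMap A (sSup 𝒯 : Subalgebra A B)) := by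
  intro Q _ b
  let R : Subalgebra A (sSup 𝒯 : Subalgebra A B) :=
    { carrier := {b | ∃ s a : A, algebraMap A _ s ∉ Q ∧ algebraMap A _ s * b - algebraMap A _ a ∈ Q}
      mul_mem' := by
        rintro x y ⟨s, a, hs, hx⟩ ⟨t, c, ht, hy⟩
        refine ⟨s * t, a * c, by rw [map_mul]; exact fun h => (Ideal.IsPrime.mem_or_mem ‹_› h).elim hs ht, ?_⟩
        have e := Q.add_mem (Q.mul_mem_right (algebraMap A _ t * y) hx) (Q.mul_mem_left (algebraMap A _ a) hy)
        convert e using 1
        simp only [map_mul]; ring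
      add_mem' := by
        rintro x y ⟨s, a, hs, hx⟩ ⟨t, c, ht, hy⟩
        refine ⟨s * t, a * t + c * s, by rw [map_mul]; exact fun h => (Ideal.IsPrime.mem_or_mem ‹_› h).elim hs ht,
          ?_⟩
        have e := Q.add_mem (Q.mul_mem_left (algebraMap A _ t) hx) (Q.mul_mem_left (algebraMap A _ s) hy)
        convert e using 1
        simp only [map_mul, map_add]; ring
      algebraMap_mem' := fun a => ⟨1, a, by simpa using (Ideal.ne_top_iff_one Q).1 Ideal.IsPrime.ne_top',
        by simp⟩ }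
  have hle : sSup 𝒯 ≤ R.map (sSup 𝒯 : Subalgebra A B).val := sSup_le fun T hT x hx => by
    have hT' : T ≤ sSup 𝒯 := le_sSup hT
    obtain ⟨s, a, hs, ha⟩ := h T hT (Q.comap (Subalgebra.inclusion hT').toRingHom) ⟨x, hx⟩
    exact ⟨⟨x, hT' hx⟩, ⟨s, a, hs, ha⟩, rfl⟩
  obtain ⟨c, hc, he⟩ := hle b.2
  have : c = b := Subtype.ext he
  subst this
  exact hc

variable {C : Type u} [CommRing C] [Algebra A C] (g : C →ₐ[A] B)

theorem radic_range (h : Radic (algebraMap A C)) : Radic (algebraMap A g.range) := by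
  intro K _ f f' hff
  have e := h K (f.comp g.rangeRestrict.toRingHom) (f'.comp g.rangeRestrict.toRingHom)
    (RingHom.ext fun a => by
      simp only [RingHom.comp_apply, AlgHom.toRingHom_eq_coe, RingHom.coe_coe, AlgHom.commutes]
      exact RingHom.congr_fun hff a)
  refine RingHom.ext fun x => ?_
  obtain ⟨c, rfl⟩ := g.rangeRestrict_surjective x
  exact RingHom.congr_fun e c

theorem trivRes_range (h : TrivRes (algebraMap A C)) : TrivRes (algebraMap A g.range) := by
  intro Q _ x
  obtain ⟨c, rfl⟩ := g.rangeRestrict_surjective x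
  obtain ⟨s, a, hs, ha⟩ := h (Q.comap g.rangeRestrict.toRingHom) c
  refine ⟨s, a, ?_, ?_⟩
  · rwa [Ideal.mem_comap, AlgHom.toRingHom_eq_coe, RingHom.coe_coe, AlgHom.commutes] at hs
  · rwa [Ideal.mem_comap, AlgHom.toRingHom_eq_coe, RingHom.coe_coe, map_sub, map_mul, AlgHom.commutes,
      AlgHom.commutes] at ha

theorem isIntegral_range (h : (algebraMap A C).IsIntegral) : (algebraMap A g.range).IsIntegral := fun x => by
  obtain ⟨c, rfl⟩ := g.rangeRestrict_surjective x
  exact IsIntegral.map g.rangeRestrict (h c)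

/-- A largest subalgebra among those with a property stable under suprema and images. -/
theorem exists_largest (hdom : IsDominant (Spec.map (CommRingCat.ofHom (algebraMap A B))))
    (P : ∀ (D : Type u) [CommRing D] [Algebra A D], Prop)
    (hsup : ∀ 𝒯 : Set (Subalgebra A B), (∀ T ∈ 𝒯, P T) → P (sSup 𝒯 : Subalgebra A B))
    (himg : ∀ (C : Type u) [CommRing C] [Algebra A C] (g : C →ₐ[A] B), P C → P g.range) :
    ∃ B' : Subalgebra A B, (FlatMor.IsUnivHomeo (Spec.map (CommRingCat.ofHom (algebraMap A B'))) ∧ P B') ∧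
      ∀ (C : Type u) [CommRing C] [Algebra A C] (g : C →ₐ[A] B),
        FlatMor.IsUnivHomeo (Spec.map (CommRingCat.ofHom (algebraMap A C))) → P C → g.range ≤ B' := by
  have hker : RingHom.ker (algebraMap A B) ≤ nilradical A :=
    (PrimeSpectrum.denseRange_comap_iff_ker_le_nilRadical _).1 hdom.1
  let 𝒯 : Set (Subalgebra A B) := {T | (algebraMap A T).IsIntegral ∧ Radic (algebraMap A T) ∧ P T}
  refine ⟨sSup 𝒯, ⟨isUnivHomeo_iff_uh.2 ?_, hsup 𝒯 fun T hT => hT.2.2⟩, fun C _ _ g hC hP => ?_⟩
  · have hi := isIntegral_of_le (isIntegral_sSup 𝒯 fun T hT => hT.1)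
    exact ⟨hi, surjective_comap hker hi, radic_sSup 𝒯 fun T hT => hT.2.1⟩
  · obtain ⟨hi, -, hr⟩ := isUnivHomeo_iff_uh.1 hC
    exact le_sSup ⟨isIntegral_range g hi, radic_range g hr, himg C g hP⟩

end GrothLib.WeakNorm9
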